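import Mathlib
import Cfsg.Agent.H741.Lb.Defs

/-!
# S4879, row `²F₄(q)`, `p = 11`: the normal subgroup of index `5` (helper158)

`exists_H`: one class of elements of order `11`, no element of order `11` of `T` is conjugate in `T` to its powers `3, 4, 5, 9`,
`G/T` cyclic ⟹ there is a normal subgroup `H ≥ T` of index `5` containing the centralizers of the elements of order `11`.
-/

set_option autoImplicit false

namespace Cfsg.Agent.H158.LB

open Subgroup Cfsg.Agent.H741.Lb

/-- a subgroup of index divisible by `5` of a finite cyclic group is killed by the power `m / 5` -/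
theorem pow_of_dvd_index {Q : Type*} [Group Q] [Finite Q] {D : Subgroup Q} (h : 5 ∣ D.index) {d : Q} (hd : d ∈ D) :
    d ^ (Nat.card Q / 5) = 1 := by
  obtain ⟨k, hk⟩ := h
  have h1 : Nat.card Q = Nat.card D * (5 * k) := by rw [← hk, Subgroup.card_mul_index]
  have h2 : Nat.card Q / 5 = Nat.card D * k := by
    rw [h1, show Nat.card D * (5 * k) = Nat.card D * k * 5 by ring, Nat.mul_div_cancel _ (by norm_num)]
  rw [h2, pow_mul]
  have h3 : d ^ Nat.card D = 1 := by
    have h4 : (⟨d, hd⟩ : D) ^ Nat.card D = 1 := pow_card_eq_one'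
    exact congrArg Subtype.val h4
  rw [h3, one_pow]

/-- an element outside `D` whose fifth power is in `D` forces `5 ∣ D.index` (abelian group) -/
theorem dvd_index {Q : Type*} [CommGroup Q] [Finite Q] {D : Subgroup Q} {g : Q} (h1 : g ∉ D) (h2 : g ^ 5 ∈ D) :
    5 ∣ D.index := by
  have h3 : orderOf (QuotientGroup.mk g : Q ⧸ D) = 5 := by
    haveI : Fact (Nat.Prime 5) := ⟨by norm_num⟩
    refine orderOf_eq_prime ?_ ?_
    · rw [← QuotientGroup.mk_pow]
      exact (QuotientGroup.eq_one_iff _).2 h2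
    · intro h
      exact h1 ((QuotientGroup.eq_one_iff _).1 h)
  rw [Subgroup.index, ← h3]
  exact orderOf_dvd_natCard _

theorem exists_H {G : Type*} [Group G] [Finite G] (T : Subgroup G) [T.Normal] (hcyc : IsCyclic (G ⧸ T))
    (h1 : ∃ x : G, orderOf x = 11) (h2 : ∀ x : G, orderOf x = 11 → x ∈ T) (hO : OneC 11 G)
    (hcl : ∀ x g : T, orderOf x = 11 → ∀ j : ℕ, (j = 3 ∨ j = 4 ∨ j = 5 ∨ j = 9) → g * x * g⁻¹ ≠ x ^ j) :
    ∃ H : Subgroup G, H.Normal ∧ T ≤ H ∧ H.index = 5 ∧ ∀ x : G, orderOf x = 11 → centralizer {x} ≤ H := by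
  classical
  haveI := hcyc
  letI : CommGroup (G ⧸ T) := IsCyclic.commGroup
  haveI : Fact (Nat.Prime 11) := ⟨by norm_num⟩
  set π : G →* G ⧸ T := QuotientGroup.mk' T with hπ
  have key : ∀ x : G, orderOf x = 11 → 5 ∣ ((centralizer {x}).map π).index := by
    intro x hx
    have h3 : orderOf (x ^ 3) = 11 := by
      rw [orderOf_pow' _ (by norm_num), hx]
      norm_num
    have hne : ∀ y : G, orderOf y = 11 → y ≠ 1 := fun y hy h => by
      rw [h, orderOf_one] at hy
      norm_num at hy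
    obtain ⟨g, hg⟩ := isConj_iff.1 (hO x (x ^ 3) (hne x hx) (hne _ h3) ⟨1, by rw [hx, pow_one]⟩ ⟨1, by rw [h3, pow_one]⟩)
    have hg5 : g ^ 5 ∈ centralizer ({x} : Set G) := by
      have hpow : ∀ n : ℕ, g ^ n * x * (g ^ n)⁻¹ = x ^ 3 ^ n := by
        intro n
        induction n with
        | zero => simp
        | succ n ih =>
          rw [pow_succ', mul_inv_rev, pow_succ, pow_mul]
          have h4 : g * g ^ n * x * ((g ^ n)⁻¹ * g⁻¹) = g * (g ^ n * x * (g ^ n)⁻¹) * g⁻¹ := by group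
          rw [h4, ih, ← conj_pow, hg]
          rw [← pow_mul, ← pow_mul, mul_comm]
      have h4 := hpow 5
      have h5 : x ^ 3 ^ 5 = x := by
        have h6 : (3 : ℕ) ^ 5 = 11 * 22 + 1 := by norm_num
        rw [h6, pow_succ, pow_mul, ← hx, pow_orderOf_eq_one, one_pow, one_mul]
      rw [h5, mul_inv_eq_iff_eq_mul] at h4
      rw [mem_centralizer_singleton_iff]
      exact h4
    refine dvd_index (g := π g) ?_ ?_
    · rintro ⟨c, hc, hcg⟩
      rw [SetLike.mem_coe, mem_centralizer_singleton_iff] at hc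
      have h4 : g * c⁻¹ ∈ T := by
        rw [← QuotientGroup.eq_one_iff (N := T)]
        change π (g * c⁻¹) = 1
        rw [map_mul, map_inv, hcg, mul_inv_cancel]
      have hxT := h2 x hx
      refine hcl ⟨x, hxT⟩ ⟨g * c⁻¹, h4⟩ (by rw [← hx]; exact Subgroup.orderOf_mk _ _) 3 (Or.inl rfl) ?_
      apply Subtype.ext
      change g * c⁻¹ * x * (g * c⁻¹)⁻¹ = x ^ 3
      rw [← hg]
      have h5 : c⁻¹ * x * c = x := by
        rw [mul_assoc, ← hc, inv_mul_cancel_left]
      calc g * c⁻¹ * x * (g * c⁻¹)⁻¹ = g * (c⁻¹ * x * c) * g⁻¹ := by group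
        _ = g * x * g⁻¹ := by rw [h5]
    · exact ⟨g ^ 5, hg5, map_pow π g 5⟩
  obtain ⟨x, hx⟩ := h1
  have h5 : 5 ∣ Nat.card (G ⧸ T) := (key x hx).trans (Subgroup.index_dvd_card _)
  obtain ⟨m, hm⟩ := h5
  have hm0 : m ≠ 0 := fun h => by
    rw [h, mul_zero] at hm
    exact Nat.card_pos.ne' hm
  have hdiv : Nat.card (G ⧸ T) / 5 = m := by rw [hm, Nat.mul_div_cancel_left _ (by norm_num)]
  refine ⟨(powMonoidHom (α := G ⧸ T) m).ker.comap π, inferInstance, ?_, ?_, ?_⟩
  · intro t ht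
    rw [mem_comap, MonoidHom.mem_ker]
    have h6 : π t = 1 := (QuotientGroup.eq_one_iff _).2 ht
    rw [h6, map_one]
  · rw [Subgroup.index_comap_of_surjective _ (QuotientGroup.mk'_surjective T), IsCyclic.index_powMonoidHom_ker, hm,
      Nat.gcd_eq_right (Dvd.intro_left _ rfl), Nat.mul_div_cancel _ (Nat.pos_of_ne_zero hm0)]
  · intro y hy c hc
    rw [mem_comap, MonoidHom.mem_ker, powMonoidHom_apply, ← hdiv]
    exact pow_of_dvd_index (key y hy) ⟨c, hc, rfl⟩

end Cfsg.Agent.H158.LB
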